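import Cfsg.Agent.PQ.Mk.Defs
import Cfsg.Agent.PQ.Mk.Lin
import Cfsg.Agent.S0749
import Cfsg.Agent.ClassicalGeometry.WittQuad

/-!
# Formed spaces: Witt's lemma, Lagrangian subspaces, frames
-/

set_option autoImplicit false
set_option linter.unusedSectionVars false

namespace Cfsg.Agent.PQ.G4

open Module Cfsg.Agent.PQ.Mk

/-- `1` for orthogonal, `0` for symplectic spaces -/
def kp (F : Type) [Field F] (o : Bool) : F := if o then 1 else 0

/-- the sign of the bilinear form -/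
def sg (F : Type) [Field F] (o : Bool) : F := if o then 1 else -1

variable {o : Bool} {F X : Type} [Field F] [AddCommGroup X] [Module F X]

theorem sg_sq (o : Bool) : sg F o * sg F o = 1 := by cases o <;> simp [sg]
theorem sg_not (o : Bool) : sg F (!o) = - sg F o := by cases o <;> simp [sg]
theorem kp_not (o : Bool) : kp F (!o) = 1 - kp F o := by cases o <;> simp [kp]
theorem kp_sg (o : Bool) : kp F o * sg F o = kp F o := by cases o <;> simp [kp, sg]
theorem kp_kp (o : Bool) : kp F o * kp F o = kp F o := by cases o <;> simp [kp]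
theorem sg_eq (o : Bool) : sg F o = 2 * kp F o - 1 := by
  cases o
  · simp [kp, sg]
  · simp only [kp, sg, if_true]; ring

theorem B_symm (Φ : Fm o F X) (x y : X) : Φ.B x y = sg F o * Φ.B y x := by
  cases o
  · rw [← (Φ.sp rfl).1.neg_eq]; simp [sg]
  · rw [← Φ.og rfl]
    simp only [sg, if_true, one_mul, QuadraticMap.polarBilin_apply_apply]
    exact QuadraticMap.polar_comm _ _ _

theorem Q_add (Φ : Fm o F X) (x y : X) : Φ.Q (x + y) = Φ.Q x + Φ.Q y + kp F o * Φ.B x y := by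
  cases o
  · rw [(Φ.sp rfl).2]; simp [kp]
  · rw [← Φ.og rfl]
    simp only [kp, if_true, one_mul, QuadraticMap.polarBilin_apply_apply, QuadraticMap.polar]
    ring

theorem Q_smul (Φ : Fm o F X) (a : F) (x : X) : Φ.Q (a • x) = a * a * Φ.Q x := by
  rw [QuadraticMap.map_smul, smul_eq_mul]

theorem B_self (Φ : Fm o F X) (x : X) : Φ.B x x = 2 * Φ.Q x := by
  cases o
  · rw [(Φ.sp rfl).2, (Φ.sp rfl).1 x]; simp
  · rw [← Φ.og rfl, QuadraticMap.polarBilin_apply_apply, QuadraticMap.polar_self, two_nsmul, two_mul]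

theorem kp_Q (Φ : Fm o F X) (x : X) : kp F o * Φ.Q x = Φ.Q x := by
  cases o
  · rw [(Φ.sp rfl).2]; simp
  · simp [kp]

theorem B_zero_symm (Φ : Fm o F X) {x y : X} (h : Φ.B x y = 0) : Φ.B y x = 0 := by rw [B_symm, h, mul_zero]

theorem G_B {Φ : Fm o F X} (g : Φ.G) (x y : X) : Φ.B (g.1 x) (g.1 y) = Φ.B x y := g.2.1 x y
theorem G_Q {Φ : Fm o F X} (g : Φ.G) (x : X) : Φ.Q (g.1 x) = Φ.Q x := g.2.2 x

variable [FiniteDimensional F X]

/-- **Witt's lemma** for two linear maps into a formed space -/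
theorem witt_map (Φ : Fm o F X) {Z : Type} [AddCommGroup Z] [Module F Z] (i i' : Z →ₗ[F] X)
    (hk : LinearMap.ker i = LinearMap.ker i') (hB : ∀ a b, Φ.B (i' a) (i' b) = Φ.B (i a) (i b))
    (hQ : ∀ a, Φ.Q (i' a) = Φ.Q (i a)) : ∃ g : Φ.G, ∀ a, g.1 (i a) = i' a := by
  let φ : LinearMap.range i ≃ₗ[F] LinearMap.range i' :=
    i.quotKerEquivRange.symm.trans ((Submodule.quotEquivOfEq _ _ hk).trans i'.quotKerEquivRange)
  have hφ : ∀ a, (φ ⟨i a, a, rfl⟩ : X) = i' a := by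
    intro a
    have e : i.quotKerEquivRange.symm ⟨i a, a, rfl⟩ = Submodule.Quotient.mk a := by
      rw [LinearEquiv.symm_apply_eq]
      exact Subtype.ext (i.quotKerEquivRange_apply_mk a).symm
    simp only [φ, LinearEquiv.trans_apply, e, Submodule.quotEquivOfEq_mk]
    exact i'.quotKerEquivRange_apply_mk a
  cases o
  · obtain ⟨g, h1, h2⟩ := Cfsg.Agent.S0749.result Φ.B Φ.nd (Φ.sp rfl).1 _ _ φ (by
      rintro ⟨_, a, rfl⟩ ⟨_, b, rfl⟩
      rw [hφ, hφ, hB])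
    refine ⟨⟨g, h1, fun v => by rw [(Φ.sp rfl).2]; rfl⟩, fun a => ?_⟩
    exact (h2 ⟨i a, a, rfl⟩).trans (hφ a)
  · obtain ⟨g, h1, h2⟩ := ClassicalGeometry.WittQuad.extend Φ.Q (by rw [Φ.og rfl]; exact Φ.nd) _ _ φ (by
      rintro ⟨_, a, rfl⟩
      rw [hφ, hQ])
    refine ⟨⟨g, fun u v => ?_, h1⟩, fun a => (h2 ⟨i a, a, rfl⟩).trans (hφ a)⟩
    rw [← Φ.og rfl]
    exact ClassicalGeometry.WittQuad.polar_map Φ.Q g (map_add g) h1 u v

/-- Witt's lemma for a map which is an injective isometry on a subspace -/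
theorem witt_on (Φ : Fm o F X) (U : Submodule F X) (γ : X →ₗ[F] X) (hi : ∀ v ∈ U, γ v = 0 → v = 0)
    (hB : ∀ u ∈ U, ∀ v ∈ U, Φ.B (γ u) (γ v) = Φ.B u v) (hQ : ∀ u ∈ U, Φ.Q (γ u) = Φ.Q u) :
    ∃ g : Φ.G, ∀ v ∈ U, g.1 v = γ v := by
  obtain ⟨g, hg⟩ := witt_map Φ U.subtype (γ.comp U.subtype) (by
    rw [Submodule.ker_subtype, eq_comm, LinearMap.ker_eq_bot']
    exact fun v hv => Subtype.ext (hi v v.2 hv)) (fun a b => hB a a.2 b b.2) (fun a => hQ a a.2)
  exact ⟨g, fun v hv => hg ⟨v, hv⟩⟩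

/-- an isometric linear map lies in the isometry group -/
theorem exists_G (Φ : Fm o F X) (γ : X →ₗ[F] X) (hB : ∀ u v, Φ.B (γ u) (γ v) = Φ.B u v) (hQ : ∀ u, Φ.Q (γ u) = Φ.Q u) :
    ∃ g : Φ.G, ∀ v, g.1 v = γ v := by
  obtain ⟨g, hg⟩ := witt_on Φ ⊤ γ (fun v _ hv => Φ.nd.1 v fun y => by rw [← hB, hv, map_zero, LinearMap.zero_apply])
    (fun u _ v _ => hB u v) (fun u _ => hQ u)
  exact ⟨g, fun v => hg v trivial⟩

/-- Lagrangian subspace -/
structure IsLag (Φ : Fm o F X) (L : Submodule F X) : Prop where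
  b : ∀ x ∈ L, ∀ y ∈ L, Φ.B x y = 0
  q : ∀ x ∈ L, Φ.Q x = 0
  d : 2 * finrank F L = finrank F X

variable {Φ : Fm o F X} {L L' L'' : Submodule F X}

theorem IsLag.mem (h : IsLag Φ L) {x : X} (hx : ∀ l ∈ L, Φ.B x l = 0) : x ∈ L := by
  have h1 : L ≤ Φ.B.orthogonal L := fun y hy n hn => h.b n hn y hy
  have h2 := LinearMap.BilinForm.finrank_orthogonal Φ.nd L
  have h3 := h.d
  rw [Submodule.eq_of_le_of_finrank_le h1 (by omega)]
  exact fun n hn => B_zero_symm Φ (hx n hn)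

theorem IsLag.map (h : IsLag Φ L) (g : Φ.G) : IsLag Φ (L.map (g.1 : X →ₗ[F] X)) where
  b := by
    rintro _ ⟨x, hx, rfl⟩ _ ⟨y, hy, rfl⟩
    exact (G_B g x y).trans (h.b x hx y hy)
  q := by
    rintro _ ⟨x, hx, rfl⟩
    exact (G_Q g x).trans (h.q x hx)
  d := by rw [LinearEquiv.finrank_map_eq, h.d]

theorem exists_vec (Φ : Fm o F X) (f : X →ₗ[F] F) : ∃ y, ∀ x, Φ.B y x = f x := by
  refine ⟨(Φ.B.toDual Φ.nd).symm f, fun x => ?_⟩
  exact LinearMap.BilinForm.apply_toDual_symm_apply f x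

theorem IsLag.exists_dual (h' : IsLag Φ L') (L : Submodule F X) (f : X →ₗ[F] F) (hf : ∀ v ∈ L, v ∈ L' → f v = 0) :
    ∃ y ∈ L', ∀ l ∈ L, Φ.B y l = f l := by
  obtain ⟨γ, h1, h2⟩ := glue L L' f 0 hf
  obtain ⟨y, hy⟩ := exists_vec Φ γ
  exact ⟨y, h'.mem fun l hl => (hy l).trans (h2 l hl), fun l hl => (hy l).trans (h1 l hl)⟩

theorem map_eq_of {A A' : Submodule F X} {f : X →ₗ[F] X} (h1 : ∀ v ∈ A, f v ∈ A') (h2 : ∀ v ∈ A, f v = 0 → v = 0)
    (hd : finrank F A' ≤ finrank F A) : A.map f = A' :=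
  Submodule.eq_of_le_of_finrank_le (by rintro _ ⟨v, hv, rfl⟩; exact h1 v hv) (by rw [finrank_map_inj h2]; exact hd)

theorem map_congr_on {A : Submodule F X} {f f' : X →ₗ[F] X} (h : ∀ v ∈ A, f v = f' v) : A.map f = A.map f' := by
  ext x
  constructor
  · rintro ⟨v, hv, rfl⟩
    exact ⟨v, hv, (h v hv).symm⟩
  · rintro ⟨v, hv, rfl⟩
    exact ⟨v, hv, h v hv⟩

/-- transitivity on Lagrangian subspaces -/
theorem IsLag.trans (h : IsLag Φ L) (h' : IsLag Φ L') : ∃ g : Φ.G, L.map (g.1 : X →ₗ[F] X) = L' := by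
  have hd : finrank F L = finrank F L' := by have := h.d; have := h'.d; omega
  obtain ⟨a, -, a1, a2⟩ := inj_ext (D := ⊥) (K := L) (K' := L') bot_le hd.le 0 (fun _ _ => L'.zero_mem)
    (fun v hv _ => (Submodule.mem_bot F).1 hv)
  obtain ⟨g, hg⟩ := witt_on Φ L a a2 (fun u hu v hv => by rw [h.b u hu v hv, h'.b _ (a1 u hu) _ (a1 v hv)])
    (fun u hu => by rw [h.q u hu, h'.q _ (a1 u hu)])
  exact ⟨g, (map_congr_on hg).trans (map_eq_of a1 a2 hd.ge)⟩

/-- transitivity on pairs of Lagrangian subspaces -/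
theorem IsLag.pair (h : IsLag Φ L) (h' : IsLag Φ L') (h'' : IsLag Φ L'')
    (hd : finrank F ↥(L ⊓ L') = finrank F ↥(L ⊓ L'')) :
    ∃ g : Φ.G, L.map (g.1 : X →ₗ[F] X) = L ∧ L'.map (g.1 : X →ₗ[F] X) = L'' := by
  obtain ⟨a0, -, b1, b2⟩ := inj_ext (D := ⊥) (K := L ⊓ L') (K' := L ⊓ L'') bot_le hd.le 0 (fun _ _ => Submodule.zero_mem _)
    (fun v hv _ => (Submodule.mem_bot F).1 hv)
  obtain ⟨a, a0', a1, a2⟩ := inj_ext (D := L ⊓ L') (K := L) (K' := L) inf_le_left le_rfl a0 (fun v hv => (b1 v hv).1) b2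
  have a3 : L.map a = L := map_eq_of a1 a2 le_rfl
  have a4 : (L ⊓ L').map a = L ⊓ L'' :=
    map_eq_of (fun v hv => by rw [a0' v hv]; exact b1 v hv) (fun v hv => a2 v hv.1) hd.ge
  let f : X →ₗ[F] (L →ₗ[F] F) := Φ.B.compl₂ L.subtype
  let p : X →ₗ[F] (L →ₗ[F] F) := Φ.B.compl₂ (a.comp L.subtype)
  have hf : ∀ x (l : L), f x l = Φ.B x l := fun _ _ => rfl
  have hp : ∀ x (l : L), p x l = Φ.B x (a l) := fun _ _ => rfl
  obtain ⟨θ, t1, t2, t3⟩ := ext_on (D := L ⊓ L') (A := L') (A' := L'') inf_le_right (f := f) (f' := p) (fun u hu => by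
      obtain ⟨η, hη⟩ := fac_on L a (Φ.B u) fun v hv h0 => by rw [a2 v hv h0, map_zero]
      obtain ⟨y, hy, hy'⟩ := h''.exists_dual L η fun v hv hv' => by
        have : v ∈ (L ⊓ L').map a := by rw [a4]; exact ⟨hv, hv'⟩
        obtain ⟨w, hw, rfl⟩ := this
        rw [hη w hw.1]
        exact h'.b u hu w hw.2
      exact ⟨y, hy, LinearMap.ext fun l => by rw [hp, hf, hy' _ (a1 l l.2), hη l l.2]⟩)
    (by
      have e1 : L' ⊓ LinearMap.ker f ≤ L ⊓ L' := fun v hv => ⟨h.mem fun l hl => LinearMap.congr_fun hv.2 ⟨l, hl⟩, hv.1⟩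
      have e2 : L ⊓ L'' ≤ L'' ⊓ LinearMap.ker p := fun v hv => ⟨hv.2, LinearMap.ext fun l => h.b v hv.1 _ (a1 l l.2)⟩
      exact (Submodule.finrank_mono e1).trans (hd.le.trans (Submodule.finrank_mono e2))) a
    (fun v hv => ⟨by rw [a0' v hv]; exact (b1 v hv).2, LinearMap.ext fun l => by
      rw [hp, hf, h.b _ (a1 v hv.1) _ (a1 l l.2), h.b v hv.1 l l.2]⟩) (fun v hv => a2 v hv.1)
  have t4 : ∀ x ∈ L', ∀ l ∈ L, Φ.B (θ x) (a l) = Φ.B x l := fun x hx l hl => LinearMap.congr_fun (t2 x hx).2 ⟨l, hl⟩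
  have t5 : ∀ x ∈ L', ∀ l ∈ L, Φ.B (a l) (θ x) = Φ.B l x := fun x hx l hl => by rw [B_symm, t4 x hx l hl, ← B_symm]
  obtain ⟨γ, g1, g2⟩ := glue L L' a θ fun v hv hv' => (t1 v ⟨hv, hv'⟩).symm
  obtain ⟨g, hg⟩ := witt_on Φ (L ⊔ L') γ
    (fun v hv h0 => by
      obtain ⟨l, hl, x, hx, rfl⟩ := Submodule.mem_sup.1 hv
      rw [map_add, g1 l hl, g2 x hx] at h0
      have hxL : x ∈ L := h.mem fun m hm => by
        rw [← t4 x hx m hm, eq_neg_of_add_eq_zero_right h0, map_neg, LinearMap.neg_apply, h.b _ (a1 l hl) _ (a1 m hm), neg_zero]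
      rw [t1 x ⟨hxL, hx⟩, ← map_add] at h0
      exact a2 _ (L.add_mem hl hxL) h0)
    (fun u hu v hv => by
      obtain ⟨l, hl, x, hx, rfl⟩ := Submodule.mem_sup.1 hu
      obtain ⟨l', hl', x', hx', rfl⟩ := Submodule.mem_sup.1 hv
      simp only [map_add, LinearMap.add_apply, g1 l hl, g2 x hx, g1 l' hl', g2 x' hx']
      rw [h.b _ (a1 l hl) _ (a1 l' hl'), h.b l hl l' hl', h''.b _ (t2 x hx).1 _ (t2 x' hx').1, h'.b x hx x' hx',
        t4 x hx l' hl', t5 x' hx' l hl])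
    (fun u hu => by
      obtain ⟨l, hl, x, hx, rfl⟩ := Submodule.mem_sup.1 hu
      rw [map_add, g1 l hl, g2 x hx, Q_add, Q_add, h.q _ (a1 l hl), h.q l hl, h''.q _ (t2 x hx).1, h'.q x hx, t5 x hx l hl])
  refine ⟨g, ?_, ?_⟩
  · rw [map_congr_on (f' := a) fun v hv => (hg v (Submodule.mem_sup_left hv)).trans (g1 v hv), a3]
  · rw [map_congr_on (f' := θ) fun v hv => (hg v (Submodule.mem_sup_right hv)).trans (g2 v hv)]
    exact map_eq_of (fun v hv => (t2 v hv).1) t3 (by have := h'.d; have := h''.d; omega)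

/-- a pair of opposite Lagrangian subspaces with dual bases -/
structure Fr (Φ : Fm o F X) (N : ℕ) where
  kap : (Fin N → F) →ₗ[F] X
  lam : (Fin N → F) →ₗ[F] X
  kk : ∀ a b, Φ.B (kap a) (kap b) = 0
  ll : ∀ a b, Φ.B (lam a) (lam b) = 0
  lk : ∀ a b, Φ.B (lam a) (kap b) = a ⬝ᵥ b
  qk : ∀ a, Φ.Q (kap a) = 0
  ql : ∀ a, Φ.Q (lam a) = 0
  d : finrank F X = 2 * N

theorem Q_sum_zero (Φ : Fm o F X) {ι : Type} (s : Finset ι) (x : ι → X) (h1 : ∀ i j, Φ.B (x i) (x j) = 0)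
    (h2 : ∀ i, Φ.Q (x i) = 0) : Φ.Q (∑ i ∈ s, x i) = 0 := by
  classical
  induction s using Finset.induction_on with
  | empty => simp
  | insert i s hi ih => rw [Finset.sum_insert hi, Q_add, h2, ih, map_sum, Finset.sum_eq_zero fun j _ => h1 i j]; simp

theorem IsLag.exists_fr (h : IsLag Φ L) {N : ℕ} (hN : finrank F L = N) :
    ∃ fr : Fr Φ N, LinearMap.range fr.lam = L := by
  classical
  let b : Basis (Fin N) F L := Module.finBasisOfFinrankEq F L hN
  let lam : (Fin N → F) →ₗ[F] X := L.subtype.comp b.equivFun.symm.toLinearMap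
  have hl : ∀ a, lam a ∈ L := fun a => (b.equivFun.symm a).2
  have hr : LinearMap.range lam = L := by
    rw [LinearMap.range_comp, LinearEquiv.range, Submodule.map_top, Submodule.range_subtype]
  have hi : ∀ a, lam a = 0 → a = 0 := fun a ha => by
    have : b.equivFun.symm a = 0 := Subtype.ext ha
    exact b.equivFun.symm.map_eq_zero_iff.1 this
  have hk : ∀ i : Fin N, ∃ y, ∀ a, Φ.B (lam a) y = a i := by
    intro i
    obtain ⟨η, hη⟩ := fac_on ⊤ lam (LinearMap.proj i : (Fin N → F) →ₗ[F] F) fun v _ hv => by rw [hi v hv, map_zero]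
    obtain ⟨y, hy⟩ := exists_vec Φ η
    refine ⟨sg F o • y, fun a => ?_⟩
    rw [map_smul, smul_eq_mul, ← B_symm, hy, hη a trivial]
    rfl
  choose y hy using hk
  let S : Fin N → Fin N → F := fun i j => if i < j then Φ.B (y i) (y j) else if i = j then Φ.Q (y i) else 0
  let k : Fin N → X := fun i => y i - lam (S i)
  have k1 : ∀ a i, Φ.B (lam a) (k i) = a i := fun a i => by
    rw [map_sub, hy, h.b _ (hl _) _ (hl _), sub_zero]
  have k2 : ∀ i j, Φ.B (k i) (k j) = 0 := by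
    intro i j
    have e : Φ.B (k i) (k j) = Φ.B (y i) (y j) - sg F o * S j i - S i j := by
      show Φ.B (y i - lam (S i)) (k j) = _
      rw [map_sub Φ.B, LinearMap.sub_apply, k1, map_sub, B_symm Φ (y i) (lam _), hy]
    rw [e]
    rcases lt_trichotomy i j with hij | rfl | hij
    · simp [S, hij, hij.ne', not_lt.2 hij.le]
    · simp only [S, lt_irrefl, if_false, if_true]
      rw [B_self, sg_eq]
      linear_combination (-2 : F) * kp_Q Φ (y i)
    · simp only [S, hij, if_true, not_lt.2 hij.le, hij.ne', if_false]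
      rw [← B_symm]
      ring
  have k3 : ∀ i, Φ.Q (k i) = 0 := by
    intro i
    show Φ.Q (y i - lam (S i)) = 0
    rw [sub_eq_add_neg, Q_add, QuadraticMap.map_neg, h.q _ (hl _), map_neg, B_symm Φ (y i), hy]
    simp only [S, lt_irrefl, if_false, if_true]
    linear_combination (-Φ.Q (y i)) * kp_sg (F := F) o - kp_Q Φ (y i)
  let kap : (Fin N → F) →ₗ[F] X := Fintype.linearCombination F k
  have hkap : ∀ a, kap a = ∑ i, a i • k i := fun a => Fintype.linearCombination_apply F k a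
  refine ⟨⟨kap, lam, fun a a' => ?_, fun a a' => h.b _ (hl _) _ (hl _), fun a a' => ?_, fun a => ?_, fun a => h.q _ (hl _), ?_⟩, hr⟩
  · rw [hkap, hkap]
    simp [k2]
  · rw [hkap, map_sum, dotProduct]
    exact Finset.sum_congr rfl fun i _ => by rw [map_smul, k1, smul_eq_mul, mul_comm]
  · rw [hkap]
    exact Q_sum_zero Φ _ _ (fun i j => by simp [k2]) fun i => by rw [Q_smul, k3, mul_zero]
  · rw [← h.d, hN]

namespace Fr

variable {N : ℕ} (fr : Fr Φ N)

theorem kl (a b : Fin N → F) : Φ.B (fr.kap a) (fr.lam b) = sg F o * (b ⬝ᵥ a) := by rw [B_symm, fr.lk]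

theorem lam_eq_zero {a : Fin N → F} (h : fr.lam a = 0) : a = 0 := by
  classical
  funext i
  have := fr.lk a (Pi.single i 1)
  rw [h, map_zero, LinearMap.zero_apply, dotProduct_single, mul_one] at this
  exact this.symm

theorem kap_eq_zero {a : Fin N → F} (h : fr.kap a = 0) : a = 0 := by
  classical
  funext i
  have := fr.lk (Pi.single i 1) a
  rw [h, map_zero, single_dotProduct, one_mul] at this
  exact this.symm

theorem isLag : IsLag Φ (LinearMap.range fr.lam) where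
  b := by
    rintro _ ⟨a, rfl⟩ _ ⟨b, rfl⟩
    exact fr.ll a b
  q := by
    rintro _ ⟨a, rfl⟩
    exact fr.ql a
  d := by
    rw [LinearMap.finrank_range_of_inj ((injective_iff_map_eq_zero _).2 fun a => fr.lam_eq_zero), fr.d]
    simp

theorem span (x : X) : ∃ a b, x = fr.kap a + fr.lam b := by
  classical
  let a : Fin N → F := fun i => Φ.B (fr.lam (Pi.single i 1)) x
  obtain ⟨b, hb⟩ : x - fr.kap a ∈ LinearMap.range fr.lam := fr.isLag.mem (by
    rintro _ ⟨c, rfl⟩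
    refine B_zero_symm Φ ?_
    rw [map_sub, fr.lk, sub_eq_zero, dotProduct]
    conv_lhs => rw [← Finset.univ_sum_single c, map_sum, map_sum, LinearMap.sum_apply]
    refine Finset.sum_congr rfl fun i _ => ?_
    rw [show (Pi.single i (c i) : Fin N → F) = c i • Pi.single i 1 by rw [← Pi.single_smul, smul_eq_mul, mul_one], map_smul,
      map_smul, LinearMap.smul_apply, smul_eq_mul])
  exact ⟨a, b, by rw [hb, add_sub_cancel]⟩

end Fr

end Cfsg.Agent.PQ.G4
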