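import Cfsg.Agent.PQ.G4.Core

/-!
# Two orthogonal cyclic quotients which fill a monomial module
-/

set_option autoImplicit false

namespace Cfsg.Agent.PQ.G4

open Cfsg Representation Module Cfsg.Agent.PermutationGroups.PermChar Cfsg.Agent.OddOrderCharacters.InnerLite

variable {G Ω : Type*} [Group G] [MulAction G Ω]
variable {M : Type*} [AddCommGroup M] [Module ℂ M] {M' : Type*} [AddCommGroup M'] [Module ℂ M']

/-- the eigenvectors of the stabilizer of `x₀` -/
def FxT (ρ : Representation ℂ G M) (x₀ : Ω) (s : G → ℂ) : Submodule ℂ M where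
  carrier := {v | ∀ g : G, g • x₀ = x₀ → ρ g v = s g • v}
  add_mem' := fun ha hb g hg => by rw [map_add, ha g hg, hb g hg, smul_add]
  zero_mem' := fun g _ => by rw [map_zero, smul_zero]
  smul_mem' := fun c _ ha g hg => by rw [map_smul, ha g hg, smul_comm]

theorem hom_le_fxT [FiniteDimensional ℂ M'] (ρ : Representation ℂ G M) (σ : Representation ℂ G M') (x₀ : Ω) (s : G → ℂ) {v : M}
    (hv : v ∈ FxT ρ x₀ s) (hs : Submodule.span ℂ (Set.range fun g : G => ρ g v) = ⊤) :
    finrank ℂ (ρ.IntertwiningMap σ) ≤ finrank ℂ (FxT σ x₀ s) := by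
  let e : ρ.IntertwiningMap σ →ₗ[ℂ] FxT σ x₀ s :=
    { toFun := fun φ => ⟨φ v, fun g hg => by rw [← φ.isIntertwining, hv g hg, map_smul]⟩
      map_add' := fun _ _ => rfl
      map_smul' := fun _ _ => rfl }
  refine LinearMap.finrank_le_finrank_of_injective (f := e) ?_
  rw [injective_iff_map_eq_zero]
  intro φ hφ
  have h0 : φ v = 0 := congrArg Subtype.val hφ
  refine IntertwiningMap.ext (LinearMap.ext_on hs ?_)
  rintro _ ⟨g, rfl⟩
  show φ (ρ g v) = 0
  rw [φ.isIntertwining, h0, map_zero]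

/-- data for a monomial representation -/
structure Mn (G : Type*) {Ω : Type*} [Group G] [MulAction G Ω] (x₀ : Ω) (s : G → ℂ) where
  t : Ω → G
  ht : ∀ x, t x • x₀ = x
  t0 : t x₀ = 1
  s1 : s 1 = 1
  sm : ∀ g h, g • x₀ = x₀ → h • x₀ = x₀ → s (g * h) = s g * s h

namespace Mn

variable {x₀ : Ω} {s : G → ℂ} (D : Mn G x₀ s)

theorem stab (g : G) (x : Ω) : ((D.t (g • x))⁻¹ * (g * D.t x)) • x₀ = x₀ := by
  rw [mul_smul, mul_smul, D.ht, inv_smul_eq_iff, D.ht]

/-- the cocycle -/
def c (g : G) (x : Ω) : ℂ := s ((D.t (g • x))⁻¹ * (g * D.t x))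

theorem c_mul (g h : G) (x : Ω) : D.c (g * h) x = D.c g (h • x) * D.c h x := by
  rw [c, c, c, ← D.sm _ _ (D.stab g _) (D.stab h x), mul_smul]
  congr 1
  group

include D in
theorem s_ne {g : G} (hg : g • x₀ = x₀) : s g ≠ 0 := left_ne_zero_of_mul_eq_one (b := s g⁻¹) (by
  rw [← D.sm _ _ hg (inv_smul_eq_iff.2 hg.symm), mul_inv_cancel, D.s1])

theorem c_zero {g : G} (hg : g • x₀ = x₀) : D.c g x₀ = s g := by rw [c, hg, D.t0, inv_one, one_mul, mul_one]

/-- the monomial representation -/
def rep : Representation ℂ G (Ω → ℂ) where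
  toFun g :=
    { toFun := fun f x => D.c g (g⁻¹ • x) * f (g⁻¹ • x)
      map_add' := fun f f' => funext fun x => mul_add _ _ _
      map_smul' := fun a f => funext fun x => mul_left_comm _ _ _ }
  map_one' := LinearMap.ext fun f => funext fun x => by
    change D.c 1 (1⁻¹ • x) * f (1⁻¹ • x) = f x
    rw [inv_one, one_smul, c, one_smul, one_mul, inv_mul_cancel, D.s1, one_mul]
  map_mul' g h := LinearMap.ext fun f => funext fun x => by
    change D.c (g * h) ((g * h)⁻¹ • x) * f ((g * h)⁻¹ • x) =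
      D.c g (g⁻¹ • x) * (D.c h (h⁻¹ • g⁻¹ • x) * f (h⁻¹ • g⁻¹ • x))
    rw [c_mul, mul_inv_rev, mul_smul, smul_inv_smul, mul_assoc]

theorem rep_apply (g : G) (f : Ω → ℂ) (x : Ω) : D.rep g f x = D.c g (g⁻¹ • x) * f (g⁻¹ • x) := rfl

theorem rep_single [DecidableEq Ω] (g : G) (x : Ω) : D.rep g (Pi.single x 1) = D.c g x • Pi.single (g • x) 1 := by
  funext y
  rw [rep_apply, Pi.smul_apply, smul_eq_mul]
  rcases eq_or_ne y (g • x) with rfl | h
  · rw [inv_smul_smul, Pi.single_eq_same, Pi.single_eq_same]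
  · rw [Pi.single_eq_of_ne h, Pi.single_eq_of_ne fun h1 => h (inv_smul_eq_iff.1 h1), mul_zero, mul_zero]

variable [Fintype Ω]

open Classical in
theorem rep_character (g : G) : D.rep.character g = ∑ x with g • x = x, D.c g x := by
  rw [Representation.character, LinearMap.trace_eq_matrix_trace ℂ (Pi.basisFun ℂ Ω), Matrix.trace, Finset.sum_filter]
  refine Finset.sum_congr rfl fun x _ => ?_
  rw [Matrix.diag_apply, LinearMap.toMatrix_apply, Pi.basisFun_apply, Pi.basisFun_repr, rep_single, Pi.smul_apply, smul_eq_mul]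
  split_ifs with h
  · rw [h, Pi.single_eq_same, mul_one]
  · rw [Pi.single_eq_of_ne (Ne.symm h), mul_zero]

theorem fx_le_hom [FiniteDimensional ℂ M'] (σ : Representation ℂ G M') :
    finrank ℂ (FxT σ x₀ s) ≤ finrank ℂ (D.rep.IntertwiningMap σ) := by
  classical
  have key : ∀ (w : FxT σ x₀ s) (g : G) (x : Ω), D.c g x • σ (D.t (g • x)) w = σ g (σ (D.t x) w) := by
    intro w g x
    rw [← map_smul, c, ← w.2 _ (D.stab g x), ← Module.End.mul_apply, ← map_mul, mul_inv_cancel_left, map_mul,
      Module.End.mul_apply]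
  let T : FxT σ x₀ s → ((Ω → ℂ) →ₗ[ℂ] M') := fun w =>
    { toFun := fun f => ∑ x, f x • σ (D.t x) w
      map_add' := fun f f' => by simp only [Pi.add_apply, add_smul, Finset.sum_add_distrib]
      map_smul' := fun c f => by simp only [Pi.smul_apply, smul_eq_mul, mul_smul, RingHom.id_apply, Finset.smul_sum] }
  have hT : ∀ w f, T w f = ∑ x, f x • σ (D.t x) w := fun _ _ => rfl
  let e : FxT σ x₀ s →ₗ[ℂ] D.rep.IntertwiningMap σ :=
    { toFun := fun w => (T w).intertwiningMap_of_isIntertwiningMap _ _ fun g f => by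
        rw [hT, hT, map_sum, ← Equiv.sum_comp (MulAction.toPerm g)]
        refine Finset.sum_congr rfl fun x _ => ?_
        rw [map_smul, rep_apply, MulAction.toPerm_apply, inv_smul_smul, ← key, smul_smul, mul_comm]
      map_add' := fun w w' => IntertwiningMap.ext (LinearMap.ext fun f => by
        show T (w + w') f = T w f + T w' f
        rw [hT, hT, hT, ← Finset.sum_add_distrib]
        refine Finset.sum_congr rfl fun x _ => ?_
        rw [Submodule.coe_add, map_add, smul_add])
      map_smul' := fun c w => IntertwiningMap.ext (LinearMap.ext fun f => by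
        show T (c • w) f = c • T w f
        rw [hT, hT, Finset.smul_sum]
        refine Finset.sum_congr rfl fun x _ => ?_
        rw [Submodule.coe_smul, map_smul, smul_comm]) }
  refine LinearMap.finrank_le_finrank_of_injective (f := e) ?_
  rw [injective_iff_map_eq_zero]
  intro w hw
  have h1 : T w (Pi.single x₀ 1) = 0 := by
    show e w (Pi.single x₀ 1) = 0
    rw [hw]
    rfl
  rw [hT, Finset.sum_eq_single x₀ (fun b _ hb => by rw [Pi.single_eq_of_ne hb, zero_smul]) (fun h => absurd (Finset.mem_univ _) h),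
    Pi.single_eq_same, one_smul, D.t0, map_one, Module.End.one_apply] at h1
  exact Subtype.ext h1

theorem span_rep [DecidableEq Ω] : Submodule.span ℂ (Set.range fun g : G => D.rep g (Pi.single x₀ 1)) = ⊤ := by
  rw [eq_top_iff]
  intro f _
  rw [← Finset.univ_sum_single f]
  refine Submodule.sum_mem _ fun x _ => ?_
  have : (Pi.single x (f x) : Ω → ℂ) = (f x * (D.c (D.t x) x₀)⁻¹) • D.rep (D.t x) (Pi.single x₀ 1) := by
    rw [rep_single, smul_smul, D.ht, inv_mul_cancel_right₀ (b := D.c (D.t x) x₀) (D.s_ne (D.stab _ _)), ← Pi.single_smul, smul_eq_mul, mul_one]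
  rw [this]
  exact Submodule.smul_mem _ _ (Submodule.subset_span ⟨_, rfl⟩)

theorem fx_rep_le {ι : Type*} [Fintype ι] (d : Ω → ι) (hd : ∀ x y, d x = d y → ∃ g : G, g • x₀ = x₀ ∧ g • x = y) :
    finrank ℂ (FxT D.rep x₀ s) ≤ Fintype.card ι := by
  classical
  let e : FxT D.rep x₀ s →ₗ[ℂ] (ι → ℂ) :=
    { toFun := fun f i => if h : ∃ x, d x = i then f.1 h.choose else 0
      map_add' := fun f f' => by
        funext i
        simp only [Pi.add_apply, Submodule.coe_add]
        split_ifs <;> simp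
      map_smul' := fun c f => by
        funext i
        simp only [Pi.smul_apply, Submodule.coe_smul, RingHom.id_apply]
        split_ifs <;> simp }
  have := LinearMap.finrank_le_finrank_of_injective (f := e) (by
    rw [injective_iff_map_eq_zero]
    intro f hf
    refine Subtype.ext (funext fun x => ?_)
    have h : ∃ y, d y = d x := ⟨x, rfl⟩
    have h1 : e f (d x) = f.1 h.choose := dif_pos h
    rw [hf] at h1
    obtain ⟨g, hg, hg'⟩ := hd _ _ h.choose_spec
    have h2 := congrFun (f.2 g hg) (g • h.choose)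
    rw [rep_apply, inv_smul_smul, ← h1, hg'] at h2
    exact (mul_eq_zero.1 (h2.symm.trans (mul_zero _))).resolve_left (D.s_ne hg))
  rwa [finrank_fintype_fun_eq_card] at this

end Mn

open Classical in
/-- **Two orthogonal cyclic modules with enough eigenvectors add up to the monomial module.** -/
theorem coreT [Fintype Ω] [Fintype G] [FiniteDimensional ℂ M] [FiniteDimensional ℂ M'] [MulAction.IsPretransitive G Ω]
    (ρ : Representation ℂ G M) (ρ' : Representation ℂ G M') (x₀ : Ω) (s : G → ℂ) (s1 : s 1 = 1)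
    (sm : ∀ g h, g • x₀ = x₀ → h • x₀ = x₀ → s (g * h) = s g * s h) {v : M} {v' : M'}
    (hv : v ∈ FxT ρ x₀ s) (hs : Submodule.span ℂ (Set.range fun g : G => ρ g v) = ⊤)
    (hv' : v' ∈ FxT ρ' x₀ s) (hs' : Submodule.span ℂ (Set.range fun g : G => ρ' g v') = ⊤)
    {ι : Type*} [Fintype ι] (d : Ω → ι) (hd : ∀ x y, d x = d y → ∃ g : G, g • x₀ = x₀ ∧ g • x = y)
    (hc : Fintype.card ι ≤ finrank ℂ (FxT ρ x₀ s) + finrank ℂ (FxT ρ' x₀ s))
    (ho : classInner ρ.character ρ'.character = 0) (w : G → Ω → ℂ)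
    (hw : ∀ g y, g • y • x₀ = y • x₀ → w g (y • x₀) = s (y⁻¹ * (g * y))) (g : G) :
    ρ.character g + ρ'.character g = ∑ x with g • x = x, w g x := by
  choose t ht using fun x : Ω => MulAction.exists_smul_eq G x₀ x
  let D : Mn G x₀ s := ⟨fun x => if x = x₀ then 1 else t x, fun x => by
    split_ifs with h
    · rw [one_smul, h]
    · exact ht x, if_pos rfl, s1, sm⟩
  set I := D.rep.character with hI
  have hp : (Pi.single x₀ 1 : Ω → ℂ) ∈ FxT D.rep x₀ s := fun g hg => by rw [D.rep_single, hg, D.c_zero hg]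
  have a1 := (hom_le_fxT D.rep D.rep x₀ s hp D.span_rep).trans (D.fx_rep_le d hd)
  have a2 := hom_le_fxT ρ ρ x₀ s hv hs
  have a3 := hom_le_fxT ρ' ρ' x₀ s hv' hs'
  have a4 := D.fx_le_hom ρ
  have a5 := D.fx_le_hom ρ'
  have b1 := classInner_eq_finrank D.rep D.rep
  have b2 := classInner_eq_finrank ρ ρ
  have b3 := classInner_eq_finrank ρ' ρ'
  have b4 := classInner_eq_finrank D.rep ρ
  have b5 := classInner_eq_finrank D.rep ρ'
  have b6 : classInner I ρ.character = finrank ℂ (D.rep.IntertwiningMap ρ) := by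
    rw [← ci_conj_symm, b4, map_natCast]
  have b7 : classInner I ρ'.character = finrank ℂ (D.rep.IntertwiningMap ρ') := by
    rw [← ci_conj_symm, b5, map_natCast]
  have ho' : classInner ρ'.character ρ.character = 0 := by rw [← ci_conj_symm, ho, map_zero]
  have hz : I - ρ.character - ρ'.character = 0 := by
    apply eq_zero_of_ci_self_re_le
    simp only [ci_sub_left, ci_sub_right]
    rw [b1, b2, b3, b4, b5, b6, b7, ho, ho']
    simp only [Complex.sub_re, Complex.natCast_re, Complex.zero_re]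
    have c : (finrank ℂ (D.rep.IntertwiningMap D.rep) + finrank ℂ (ρ.IntertwiningMap ρ) +
        finrank ℂ (ρ'.IntertwiningMap ρ') : ℕ) ≤ 2 * finrank ℂ (D.rep.IntertwiningMap ρ) +
        2 * finrank ℂ (D.rep.IntertwiningMap ρ') := by omega
    have c' : ((finrank ℂ (D.rep.IntertwiningMap D.rep) : ℝ) + finrank ℂ (ρ.IntertwiningMap ρ) +
        finrank ℂ (ρ'.IntertwiningMap ρ')) ≤ 2 * finrank ℂ (D.rep.IntertwiningMap ρ) +
        2 * finrank ℂ (D.rep.IntertwiningMap ρ') := by exact_mod_cast c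
    linarith
  have h1 := congrFun hz g
  simp only [Pi.sub_apply, Pi.zero_apply] at h1
  have h2 : I g = ∑ x with g • x = x, w g x := by
    rw [hI, D.rep_character]
    refine Finset.sum_congr rfl fun x hx => ?_
    have h3 := (Finset.mem_filter.1 hx).2
    have h4 := hw g (D.t x) (by rw [D.ht, h3])
    rw [D.ht] at h4
    rw [h4, Mn.c, h3]
  rw [← h2]
  linear_combination -h1

end Cfsg.Agent.PQ.G4
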