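import Cfsg.Agent.PQ.G4.Dbl
import Cfsg.Agent.PQ.G4.TwC

/-!
# The Schrödinger model of a dual pair, with a character of the Siegel parabolic subgroup
-/

set_option autoImplicit false
set_option linter.unusedSectionVars false

namespace Cfsg.Agent.PQ.G4

open Cfsg Module Cfsg.Agent.PQ.Mk

variable {o o' : Bool} {F X Y Y' : Type} [Field F] [AddCommGroup X] [Module F X] [AddCommGroup Y] [Module F Y]
  [AddCommGroup Y'] [Module F Y']

/-- **oscillator data** for the pair (isometry group of the big space `X`, isometry group of the small space `Y`) -/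
structure Pt (ψ : AddChar F ℂ) (Φ : Fm o F X) (Ψ : Fm o' F Y) {N : ℕ} (fr : Fr Φ N) (wt : Φ.G → ℂ) (E M : Type) [AddCommGroup E] [Module F E]
    [AddCommGroup M] [Module ℂ M] where
  ho : o' = !o
  c : LinearMap.BilinForm F Y
  cB : ∀ y y', Ψ.B y y' = c y y' - sg F o * c y' y
  cQ : ∀ y, Ψ.Q y = (1 - kp F o) * c y y
  t : X →ₗ[F] Y →ₗ[F] E
  β : E →ₗ[F] E →ₗ[F] F
  β_t : ∀ x y x' y', β (t x y) (t x' y') = Φ.B x x' * c y y'
  e : E → Module.End ℂ M
  e_mul : ∀ x y, e x * e y = ψ (β x y) • e (x + y)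
  e_zero : e 0 = 1
  A : Φ.G →* Module.End ℂ M
  aE : Φ.G → E →ₗ[F] E
  aE_t : ∀ g x y, aE g (t x y) = t (g.1 x) y
  A_e : ∀ g x, A g * e x = e (aE g x) * A g
  C : Ψ.G →* Module.End ℂ M
  comm : ∀ g h, A g * C h = C h * A g
  C_e : ∀ h (y : Fin N → Y), C h * e (∑ i, t (fr.kap (un i)) (y i)) = e (∑ i, t (fr.kap (un i)) (h.1 (y i))) * C h
  v0 : M
  v0_ne : v0 ≠ 0
  e_v0 : ∀ a y, e (t (fr.lam a) y) v0 = v0
  A_v0 : ∀ g, (LinearMap.range fr.lam).map (g.1 : X →ₗ[F] X) = LinearMap.range fr.lam → A g v0 = wt g • v0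
  wt_one : ∀ g, (∀ a, g.1 (fr.lam a) = fr.lam a) → wt g = 1
  C_v0 : ∀ h, C h v0 = v0
  dim : finrank ℂ M = Nat.card Y ^ N

namespace Pt

variable {ψ : AddChar F ℂ} {Φ : Fm o F X} {Ψ : Fm o' F Y} {N : ℕ} {fr : Fr Φ N} {wt : Φ.G → ℂ} {E M : Type} [AddCommGroup E] [Module F E]
  [AddCommGroup M] [Module ℂ M] [FiniteDimensional F X] (P : Pt ψ Φ Ψ fr wt E M)

/-- `Hom (L, Y) = K ⊗ Y` -/
def io (z : (Fin N → F) →ₗ[F] Y) : E := ∑ i, P.t (fr.kap (un i)) (z (un i))

/-- the basis of the model -/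
def ep (z : (Fin N → F) →ₗ[F] Y) : M := P.e (P.io z) P.v0

theorem io_add (z z' : (Fin N → F) →ₗ[F] Y) : P.io (z + z') = P.io z + P.io z' := by
  simp only [io, LinearMap.add_apply, map_add, Finset.sum_add_distrib]

theorem io_zero : P.io 0 = 0 := by simp [io]

theorem ep_zero : P.ep 0 = P.v0 := by rw [ep, io_zero, P.e_zero]; rfl

theorem β_io_io (z z' : (Fin N → F) →ₗ[F] Y) : P.β (P.io z) (P.io z') = 0 := by
  simp only [io, map_sum, LinearMap.sum_apply, P.β_t, fr.kk, zero_mul, Finset.sum_const_zero]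

theorem β_lam_io (a : Fin N → F) (y : Y) (z : (Fin N → F) →ₗ[F] Y) : P.β (P.t (fr.lam a) y) (P.io z) = P.c y (z a) := by
  rw [map_eq_sum_un z a]
  simp only [io, map_sum, P.β_t, fr.lk, dot_un, map_smul, smul_eq_mul]

theorem β_io_lam (a : Fin N → F) (y : Y) (z : (Fin N → F) →ₗ[F] Y) :
    P.β (P.io z) (P.t (fr.lam a) y) = sg F o * P.c (z a) y := by
  rw [map_eq_sum_un z a]
  simp only [io, map_sum, LinearMap.sum_apply, P.β_t, fr.kl, dot_un, map_smul, LinearMap.smul_apply, smul_eq_mul, Finset.mul_sum,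
    mul_assoc]

theorem io_rk1 (ξ : Fin N → F) (w : Y) : P.io (rk1 ξ w) = P.t (fr.kap ξ) w := by
  conv_rhs => rw [← sum_un ξ]
  simp only [io, rk1_apply, un_dot, map_sum, map_smul, LinearMap.sum_apply, LinearMap.smul_apply]

theorem e_io_ep (z z' : (Fin N → F) →ₗ[F] Y) : P.e (P.io z) (P.ep z') = P.ep (z + z') := by
  rw [ep, ← Module.End.mul_apply, P.e_mul, β_io_io, AddChar.map_zero_eq_one, one_smul, ← io_add, ep]

theorem e_add_v0 (x : E) {w : E} (hw : P.e w P.v0 = P.v0) : P.e (x + w) P.v0 = ψ (-P.β x w) • P.e x P.v0 := by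
  have h := LinearMap.congr_fun (P.e_mul x w) P.v0
  rw [Module.End.mul_apply, hw, LinearMap.smul_apply] at h
  rw [h, smul_smul, ← AddChar.map_add_eq_mul, neg_add_cancel, AddChar.map_zero_eq_one, one_smul]

theorem e_lam_ep (a : Fin N → F) (y : Y) (z : (Fin N → F) →ₗ[F] Y) :
    P.e (P.t (fr.lam a) y) (P.ep z) = ψ (Ψ.B y (z a)) • P.ep z := by
  rw [ep, ← Module.End.mul_apply, P.e_mul, LinearMap.smul_apply, add_comm, P.e_add_v0 _ (P.e_v0 a y), smul_smul,
    ← AddChar.map_add_eq_mul, β_lam_io, β_io_lam, P.cB, sub_eq_add_neg]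

theorem e_sum_v0 (τ : Fin N → Fin N → F) (y : Fin N → Y) : P.e (∑ i, P.t (fr.lam (τ i)) (y i)) P.v0 = P.v0 := by
  have key : ∀ s : Finset (Fin N), P.e (∑ i ∈ s, P.t (fr.lam (τ i)) (y i)) P.v0 = P.v0 := by
    intro s
    induction s using Finset.induction_on with
    | empty => rw [Finset.sum_empty, P.e_zero]; rfl
    | insert i s hi ih =>
      rw [Finset.sum_insert hi, P.e_add_v0 _ ih, P.e_v0, map_sum]
      simp only [P.β_t, fr.ll, zero_mul, Finset.sum_const_zero, neg_zero, AddChar.map_zero_eq_one, one_smul]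
  exact key _

theorem ep_ne (z : (Fin N → F) →ₗ[F] Y) : P.ep z ≠ 0 := by
  intro h
  have h1 := P.e_io_ep (-z) z
  rw [h, map_zero, neg_add_cancel, ep_zero] at h1
  exact P.v0_ne h1.symm

theorem C_ep (h : Ψ.G) (z : (Fin N → F) →ₗ[F] Y) : P.C h (P.ep z) = P.ep ((h.1 : Y →ₗ[F] Y).comp z) := by
  rw [ep, io, ← Module.End.mul_apply, P.C_e, Module.End.mul_apply, P.C_v0]
  rfl

theorem A_ep (g : Φ.G) {c : ℂ} (hg : P.A g P.v0 = c • P.v0) (α τ : Fin N → Fin N → F)
    (h : ∀ i, g.1 (fr.kap (un i)) = fr.kap (α i) + fr.lam (τ i)) (z : (Fin N → F) →ₗ[F] Y) :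
    P.A g (P.ep z) = c • ψ (-(sg F o * ∑ i, ∑ m, (α m ⬝ᵥ τ i) * P.c (z (un m)) (z (un i)))) • P.ep (z.comp (trp α)) := by
  have h1 : P.aE g (P.io z) = P.io (z.comp (trp α)) + ∑ i, P.t (fr.lam (τ i)) (z (un i)) := by
    have h2 : P.io (z.comp (trp α)) = ∑ i, P.t (fr.kap (α i)) (z (un i)) := by
      simp only [← io_rk1]
      unfold io
      rw [Finset.sum_comm]
      refine Finset.sum_congr rfl fun j _ => ?_
      rw [← map_sum, LinearMap.comp_apply, map_eq_sum_un z]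
      simp only [trp_apply, rk1_apply, dot_un, un_dot]
    rw [h2, io, map_sum, ← Finset.sum_add_distrib]
    exact Finset.sum_congr rfl fun i _ => by rw [P.aE_t, h, map_add, LinearMap.add_apply]
  rw [ep, ← Module.End.mul_apply, P.A_e, Module.End.mul_apply, hg, map_smul, h1, P.e_add_v0 _ (P.e_sum_v0 τ _), map_sum,
    Finset.mul_sum]
  congr 4
  refine Finset.sum_congr rfl fun i _ => ?_
  rw [β_io_lam, LinearMap.comp_apply, map_eq_sum_un z, map_sum, LinearMap.sum_apply]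
  simp only [trp_apply, map_smul, LinearMap.smul_apply, smul_eq_mul]

variable [Fintype ((Fin N → F) →ₗ[F] Y)]

theorem li (hψ : ψ ≠ 1) : LinearIndependent ℂ P.ep := by
  classical
  rw [Fintype.linearIndependent_iff]
  intro f hf z₀
  have h := isolate P.ep ⊥ (fun z => z) z₀ (fun z hz => by
    obtain ⟨a, ha⟩ : ∃ a, z a ≠ z₀ a := by
      by_contra hc
      push Not at hc
      exact hz (LinearMap.ext hc)
    obtain ⟨y, hy⟩ : ∃ y, Ψ.B y (z a) ≠ Ψ.B y (z₀ a) := by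
      by_contra hc
      push Not at hc
      exact ha (sub_eq_zero.1 (Ψ.nd.2 _ fun y => by rw [map_sub, hc, sub_self]))
    obtain ⟨s, hs⟩ := exists_psi hψ hy
    refine ⟨P.e (P.t (fr.lam a) (s • y)), fun w => ψ (s * Ψ.B y (w a)), fun v hv => ?_, fun w => ?_, hs⟩
    · rw [(Submodule.mem_bot ℂ).1 hv, map_zero]
      exact Submodule.zero_mem _
    · rw [e_lam_ep, map_smul, LinearMap.smul_apply, smul_eq_mul]) f (by rw [hf]; exact Submodule.zero_mem _)
  rw [Submodule.mem_bot, Finset.sum_filter, Finset.sum_eq_single z₀ (fun z _ hz' => if_neg hz')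
    (fun hz => absurd (Finset.mem_univ _) hz), if_pos rfl] at h
  exact (smul_eq_zero.1 h).resolve_right (P.ep_ne z₀)

include P in
theorem card_eq : Fintype.card ((Fin N → F) →ₗ[F] Y) = finrank ℂ M := by
  rw [P.dim, ← Nat.card_eq_fintype_card, ← Nat.card_congr ((Pi.basisFun F (Fin N)).constr F (M' := Y)).toEquiv, Nat.card_pi]
  simp

theorem exists_coef (hψ : ψ ≠ 1) (v : M) : ∃ f : ((Fin N → F) →ₗ[F] Y) → ℂ, v = ∑ z, f z • P.ep z := by
  have : Nonempty ((Fin N → F) →ₗ[F] Y) := ⟨0⟩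
  let b := basisOfLinearIndependentOfCardEqFinrank (P.li hψ) P.card_eq
  refine ⟨b.repr v, ?_⟩
  conv_lhs => rw [← b.sum_repr v]
  simp only [b, coe_basisOfLinearIndependentOfCardEqFinrank]

theorem coef_eq (hψ : ψ ≠ 1) {f f' : ((Fin N → F) →ₗ[F] Y) → ℂ} (h : ∑ z, f z • P.ep z = ∑ z, f' z • P.ep z) : f = f' := by
  funext z
  have h1 := Fintype.linearIndependent_iff.1 (P.li hψ) (f - f') (by
    simp only [Pi.sub_apply, sub_smul, Finset.sum_sub_distrib, h, sub_self]) z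
  exact sub_eq_zero.1 h1

/-- comparing coefficients for a monomial operator -/
theorem coef_mono (hψ : ψ ≠ 1) {T : Module.End ℂ M} (π : Equiv.Perm ((Fin N → F) →ₗ[F] Y)) (μ : ((Fin N → F) →ₗ[F] Y) → ℂ)
    {f f' : ((Fin N → F) →ₗ[F] Y) → ℂ} (hT : ∀ z, f z ≠ 0 → T (P.ep z) = μ z • P.ep (π z))
    (h : T (∑ z, f z • P.ep z) = ∑ z, f' z • P.ep z) (z : (Fin N → F) →ₗ[F] Y) : f' (π z) = μ z * f z := by
  have h1 : ∑ z, (μ (π.symm z) * f (π.symm z)) • P.ep z = ∑ z, f' z • P.ep z := by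
    rw [← h, map_sum, ← Equiv.sum_comp π]
    refine Finset.sum_congr rfl fun z _ => ?_
    rw [Equiv.symm_apply_apply, map_smul]
    by_cases h0 : f z = 0
    · simp [h0]
    · rw [hT z h0, smul_smul, mul_comm]
  rw [← P.coef_eq hψ h1]
  simp only [Equiv.symm_apply_apply]

end Pt

namespace Pt

variable [FiniteDimensional F X] {Φ : Fm o F X} {ψ : AddChar F ℂ} {Ψ : Fm o' F Y} {N : ℕ} {fr : Fr Φ N} {wt : Φ.G → ℂ}
  {E M : Type} [AddCommGroup E] [Module F E]
  [AddCommGroup M] [Module ℂ M] (P : Pt ψ Φ Ψ fr wt E M)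

/-- the stabilizer of `L` permutes the totally singular basis vectors -/
theorem A_ts (g : Φ.G) (hg : (LinearMap.range fr.lam).map (g.1 : X →ₗ[F] X) = LinearMap.range fr.lam) :
    ∃ a : (Fin N → F) ≃ₗ[F] (Fin N → F), ∀ z, TS Ψ z → P.A g (P.ep z) = wt g • P.ep (rcomp a z) := by
  choose α τ h using fun i => fr.span (g.1 (fr.kap (un i)))
  have hi : Function.Injective (trp α) := (injective_iff_map_eq_zero _).2 fun b hb => fr.lam_eq_zero (Φ.nd.1 _ fun x => by
    obtain ⟨x, rfl⟩ := g.1.surjective x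
    obtain ⟨a, a', rfl⟩ := fr.span x
    obtain ⟨a'', ha⟩ : g.1 (fr.lam a') ∈ LinearMap.range fr.lam := hg.le ⟨_, ⟨a', rfl⟩, rfl⟩
    rw [map_add, map_add, ← ha, fr.ll, add_zero, map_eq_sum_un fr.kap, map_sum, map_sum]
    refine Finset.sum_eq_zero fun i _ => ?_
    rw [map_smul, map_smul, h, map_add, fr.lk, fr.ll, add_zero, dotProduct_comm, ← trp_apply, hb, Pi.zero_apply, smul_zero])
  refine ⟨LinearEquiv.ofInjectiveEndo _ hi, fun z hz => ?_⟩
  rw [P.A_ep g (P.A_v0 g hg) α τ h, sum_alt, mul_zero, neg_zero, AddChar.map_zero_eq_one, one_smul]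
  · rfl
  · intro i m
    have h1 := G_B g (fr.kap (un m)) (fr.kap (un i))
    rw [h, h] at h1
    simp only [map_add Φ.B, map_add (Φ.B _), LinearMap.add_apply, fr.kk, fr.ll, fr.lk, fr.kl] at h1
    have h2 := hz.1 (un i) (un m)
    rw [P.cB] at h2
    rw [dotProduct_comm (α m), dotProduct_comm (α i)]
    linear_combination (sg F o * P.c (z (un m)) (z (un i))) * h1 + (τ m ⬝ᵥ α i) * h2 -
      (τ i ⬝ᵥ α m * P.c (z (un m)) (z (un i))) * sg_sq (F := F) o
  · intro i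
    have h1 := G_Q g (fr.kap (un i))
    rw [h, Q_add, fr.qk, fr.qk, fr.ql, fr.kl] at h1
    have h2 := hz.2 (un i)
    rw [P.cQ] at h2
    rw [dotProduct_comm (α i)]
    linear_combination P.c (z (un i)) (z (un i)) * h1 + (τ i ⬝ᵥ α i) * h2 -
      (τ i ⬝ᵥ α i * P.c (z (un i)) (z (un i))) * kp_sg (F := F) o

/-- the unipotent radical -/
theorem exists_unip (τ : (Fin N → F) →ₗ[F] (Fin N → F)) (hs : ∀ a b, sg F o * (τ b ⬝ᵥ a) + τ a ⬝ᵥ b = 0)
    (hq : ∀ a, kp F o * (τ a ⬝ᵥ a) = 0) :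
    ∃ g, ∀ z, P.A g (P.ep z) = ψ (-(sg F o * ∑ i, P.c (z (τ (un i))) (z (un i)))) • P.ep z := by
  obtain ⟨g, h1, h2⟩ := fr.exists_par LinearMap.id τ LinearMap.id (fun _ _ => rfl) hs hq
  refine ⟨g, fun z => ?_⟩
  have h3 : wt g = 1 := P.wt_one g fun a => by
    obtain ⟨b, hb⟩ : g.1 (fr.lam a) ∈ LinearMap.range fr.lam := h2.le ⟨_, ⟨a, rfl⟩, rfl⟩
    rw [← hb]
    refine congrArg _ (funext fun i => ?_)
    have h4 := G_B g (fr.lam a) (fr.kap (un i))
    rwa [← hb, h1, map_add, fr.lk, fr.ll, add_zero, fr.lk, LinearMap.id_apply, dot_un, dot_un] at h4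
  rw [P.A_ep g (P.A_v0 g h2) un (fun i => τ (un i)) fun i => h1 _, h3, one_smul]
  congr 2
  · congr 2
    refine Finset.sum_congr rfl fun i _ => ?_
    rw [map_eq_sum_un z (τ (un i)), map_sum, LinearMap.sum_apply]
    simp only [un_dot, map_smul, LinearMap.smul_apply, smul_eq_mul]
  · exact LinearMap.ext fun b => congrArg z (funext fun i => by rw [trp_apply, un_dot])

theorem sum_c (z : (Fin N → F) →ₗ[F] Y) (y : Y) (a : Fin N → F) : ∑ i, a i * P.c y (z (un i)) = P.c y (z a) := by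
  rw [map_eq_sum_un z a, map_sum]
  simp only [map_smul, smul_eq_mul]

theorem unip_B (a b : Fin N → F) (s : F) : ∃ g, ∀ z, P.A g (P.ep z) = ψ (s * Ψ.B (z a) (z b)) • P.ep z := by
  obtain ⟨g, hg⟩ := P.exists_unip ((-(sg F o * s)) • (rk1 b a - sg F o • rk1 a b)) (fun x y => by
      simp only [LinearMap.smul_apply, LinearMap.sub_apply, rk1_apply, smul_dotProduct, sub_dotProduct, smul_eq_mul,
        dotProduct_comm a, dotProduct_comm b]
      linear_combination (sg F o * s * (y ⬝ᵥ a) * (x ⬝ᵥ b)) * sg_sq (F := F) o)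
    (fun x => by
      simp only [LinearMap.smul_apply, LinearMap.sub_apply, rk1_apply, smul_dotProduct, sub_dotProduct, smul_eq_mul,
        dotProduct_comm a, dotProduct_comm b]
      linear_combination (sg F o * s * (x ⬝ᵥ a) * (x ⬝ᵥ b)) * kp_sg (F := F) o)
  refine ⟨g, fun z => (hg z).trans ?_⟩
  congr 2
  simp only [LinearMap.smul_apply, LinearMap.sub_apply, rk1_apply, un_dot, map_smul, map_sub, smul_eq_mul]
  rw [← Finset.mul_sum, Finset.sum_sub_distrib, ← Finset.mul_sum, sum_c, sum_c, P.cB]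
  linear_combination (s * (P.c (z a) (z b) - sg F o * P.c (z b) (z a))) * sg_sq (F := F) o

theorem unip_Q (a : Fin N → F) (s : F) : ∃ g, ∀ z, P.A g (P.ep z) = ψ (s * Ψ.Q (z a)) • P.ep z := by
  obtain ⟨g, hg⟩ := P.exists_unip ((-(sg F o * s * (1 - kp F o))) • rk1 a a) (fun x y => by
      simp only [LinearMap.smul_apply, rk1_apply, smul_dotProduct, smul_eq_mul, dotProduct_comm a]
      rw [sg_eq]
      linear_combination (2 * (2 * kp F o - 1) * s * (y ⬝ᵥ a) * (x ⬝ᵥ a)) * kp_kp (F := F) o)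
    (fun x => by
      simp only [LinearMap.smul_apply, rk1_apply, smul_dotProduct, smul_eq_mul, dotProduct_comm a]
      linear_combination (sg F o * s * (x ⬝ᵥ a) * (x ⬝ᵥ a)) * kp_kp (F := F) o)
  refine ⟨g, fun z => (hg z).trans ?_⟩
  congr 2
  simp only [LinearMap.smul_apply, rk1_apply, un_dot, map_smul, smul_eq_mul]
  rw [← Finset.mul_sum, sum_c, P.cQ]
  linear_combination (s * (1 - kp F o) * P.c (z a) (z a)) * sg_sq (F := F) o

/-- the unipotent radical separates the forms -/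
theorem sep (hψ : ψ ≠ 1) {z z' : (Fin N → F) →ₗ[F] Y} (h : fm Ψ z ≠ fm Ψ z') :
    ∃ (g : Φ.G) (μ : _ → ℂ), (∀ y, P.A g (P.ep y) = μ (fm Ψ y) • P.ep y) ∧ μ (fm Ψ z) ≠ μ (fm Ψ z') := by
  by_cases h1 : ∀ a b, Ψ.B (z a) (z b) = Ψ.B (z' a) (z' b)
  · obtain ⟨a, ha⟩ : ∃ a, Ψ.Q (z a) ≠ Ψ.Q (z' a) := by
      by_contra hc
      push Not at hc
      exact h (Prod.ext (funext fun a => funext fun b => h1 a b) (funext hc))
    obtain ⟨s, hs⟩ := exists_psi hψ ha
    obtain ⟨g, hg⟩ := P.unip_Q a s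
    exact ⟨g, fun k => ψ (s * k.2 a), hg, hs⟩
  · push Not at h1
    obtain ⟨a, b, hab⟩ := h1
    obtain ⟨s, hs⟩ := exists_psi hψ hab
    obtain ⟨g, hg⟩ := P.unip_B a b s
    exact ⟨g, fun k => ψ (s * k.1 a b), hg, hs⟩

theorem A_inv (g : Φ.G) (v : M) : P.A g⁻¹ (P.A g v) = v := by
  rw [← Module.End.mul_apply, ← map_mul, inv_mul_cancel, map_one, Module.End.one_apply]

variable [Fintype ((Fin N → F) →ₗ[F] Y)] [FiniteDimensional F Y]

open Classical in
/-- the partial Weyl elements -/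
theorem exists_weyl (hψ : ψ ≠ 1) (L₁ : Submodule F (Fin N → F)) :
    ∃ (g : Φ.G) (c : ℂ), c ≠ 0 ∧ P.A g P.v0 = c • ∑ z, (if L₁ ≤ LinearMap.ker z then (1 : ℂ) else 0) • P.ep z := by
  let K₁ : Submodule F (Fin N → F) :=
    { carrier := {ξ | ∀ a ∈ L₁, a ⬝ᵥ ξ = 0}
      add_mem' := fun h h' a ha => by rw [dotProduct_add, h a ha, h' a ha, add_zero]
      zero_mem' := fun a _ => dotProduct_zero a
      smul_mem' := fun c _ h a ha => by rw [dotProduct_smul, h a ha, smul_zero] }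
  obtain ⟨g, hg⟩ := ts_into (U := K₁.map fr.kap ⊔ L₁.map fr.lam) fr.isLag
    (fun x hx y hy => by
      obtain ⟨_, ⟨ξ, hξ, rfl⟩, _, ⟨a, ha, rfl⟩, rfl⟩ := Submodule.mem_sup.1 hx
      obtain ⟨_, ⟨ξ', hξ', rfl⟩, _, ⟨a', ha', rfl⟩, rfl⟩ := Submodule.mem_sup.1 hy
      simp only [map_add Φ.B, map_add (Φ.B _), LinearMap.add_apply, fr.kk, fr.ll, fr.lk, fr.kl, hξ a' ha', hξ' a ha, mul_zero,
        add_zero])
    (fun x hx => by
      obtain ⟨_, ⟨ξ, hξ, rfl⟩, _, ⟨a, ha, rfl⟩, rfl⟩ := Submodule.mem_sup.1 hx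
      rw [Q_add, fr.qk, fr.ql, fr.kl, hξ a ha]
      simp)
  have hw : ∀ u ∈ K₁.map fr.kap ⊔ L₁.map fr.lam, ∀ y, P.e (P.t u y) (P.A g⁻¹ P.v0) = P.A g⁻¹ P.v0 := by
    intro u hu y
    obtain ⟨a, ha⟩ := hg u hu
    have h1 := LinearMap.congr_fun (P.A_e g⁻¹ (P.t (g.1 u) y)) P.v0
    rw [P.aE_t, Module.End.mul_apply, Module.End.mul_apply, show (g⁻¹).1 (g.1 u) = u from g.1.symm_apply_apply u, ← ha,
      P.e_v0] at h1
    exact h1.symm
  obtain ⟨f, hf⟩ := P.exists_coef hψ (P.A g⁻¹ P.v0)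
  have h1 : ∀ z, ¬ L₁ ≤ LinearMap.ker z → f z = 0 := by
    intro z hz
    obtain ⟨a, ha, haz⟩ := SetLike.not_le_iff_exists.1 hz
    obtain ⟨y, hy⟩ : ∃ y, Ψ.B y (z a) ≠ 0 := by
      by_contra hc
      push Not at hc
      exact haz (Ψ.nd.2 _ hc)
    obtain ⟨s, hs⟩ := exists_psi hψ hy
    have h2 := hw _ (Submodule.mem_sup_right ⟨a, ha, rfl⟩) (s • y)
    rw [hf] at h2
    have h3 := P.coef_mono hψ (Equiv.refl _) (fun z => ψ (Ψ.B (s • y) (z a))) (fun z _ => P.e_lam_ep a _ z) h2 z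
    rw [map_smul, LinearMap.smul_apply, smul_eq_mul, Equiv.refl_apply] at h3
    rw [mul_zero, AddChar.map_zero_eq_one] at hs
    by_contra h0
    exact hs (mul_right_cancel₀ h0 (h3.symm.trans (one_mul _).symm))
  have h2 : ∀ ξ ∈ K₁, ∀ w z, f (rk1 ξ w + z) = f z := by
    intro ξ hξ w z
    have h2 := hw _ (Submodule.mem_sup_left ⟨ξ, hξ, rfl⟩) w
    rw [hf, ← io_rk1] at h2
    exact (P.coef_mono hψ (Equiv.addLeft (rk1 ξ w)) (fun _ => 1) (fun z _ => by rw [one_smul]; exact P.e_io_ep _ z) h2 z).trans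
      (one_mul _)
  have h3 : ∀ z, L₁ ≤ LinearMap.ker z → f z = f 0 := by
    intro z hz
    let b := Module.finBasis F Y
    have hd : ∀ j a, a ⬝ᵥ (fun i => b.coord j (z (un i))) = b.coord j (z a) := fun j a => by
      rw [map_eq_sum_un z a, map_sum, dotProduct]
      simp only [map_smul, smul_eq_mul]
    have h4 : z = ∑ j, rk1 (fun i => b.coord j (z (un i))) (b j) := LinearMap.ext fun a => by
      rw [LinearMap.sum_apply]
      simp only [rk1_apply, hd]
      simp only [Basis.coord_apply, b.sum_repr]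
    have h5 : ∀ s : Finset (Fin (finrank F Y)), f (∑ j ∈ s, rk1 (fun i => b.coord j (z (un i))) (b j)) = f 0 := by
      intro s
      induction s using Finset.induction_on with
      | empty => rw [Finset.sum_empty]
      | insert j s hj ih =>
        rw [Finset.sum_insert hj, h2 _ (fun a ha => by rw [hd, LinearMap.mem_ker.1 (hz ha), map_zero]), ih]
    rw [h4]
    exact h5 _
  have h4 : P.A g⁻¹ P.v0 = f 0 • ∑ z, (if L₁ ≤ LinearMap.ker z then (1 : ℂ) else 0) • P.ep z := by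
    rw [hf, Finset.smul_sum]
    refine Finset.sum_congr rfl fun z _ => ?_
    split_ifs with h
    · rw [one_smul, h3 z h]
    · rw [h1 z h, zero_smul, smul_zero]
  refine ⟨g⁻¹, f 0, fun h0 => P.v0_ne ?_, h4⟩
  rw [h0, zero_smul] at h4
  rw [← P.A_inv g⁻¹ P.v0, h4, map_zero]

/-- **the invariants are generated by the fixed vector** -/
theorem eig_le_span (hψ : ψ ≠ 1) : Eig P.C 1 ≤ Submodule.span ℂ (Set.range fun g => P.A g P.v0) := by
  classical
  set S := Submodule.span ℂ (Set.range fun g => P.A g P.v0) with hS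
  have hA : ∀ g, ∀ v ∈ S, P.A g v ∈ S := fun g v hv =>
    (Submodule.span_le (p := S.comap (P.A g))).2 (by
      rintro _ ⟨g', rfl⟩
      exact Submodule.subset_span ⟨g * g', by simp only [map_mul, Module.End.mul_apply]⟩) hv
  let cl := fun z : (Fin N → F) →ₗ[F] Y => (LinearMap.ker z, fm Ψ z)
  have lemA : ∀ f : ((Fin N → F) →ₗ[F] Y) → ℂ, (∀ z z', cl z = cl z' → f z = f z') →
      (∀ z₀, f z₀ ≠ 0 → ∑ z with cl z = cl z₀, P.ep z ∈ S) → ∑ z, f z • P.ep z ∈ S := by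
    intro f h1 h2
    rw [← Finset.sum_fiberwise_of_maps_to (g := cl) (t := Finset.univ.image cl) fun z _ => Finset.mem_image_of_mem _ (Finset.mem_univ z)]
    refine S.sum_mem fun k hk => ?_
    obtain ⟨z₀, -, rfl⟩ := Finset.mem_image.1 hk
    rw [Finset.sum_congr rfl (g := fun z => f z₀ • P.ep z) fun z hz => by rw [h1 z z₀ (Finset.mem_filter.1 hz).2], ← Finset.smul_sum]
    by_cases h0 : f z₀ = 0
    · rw [h0, zero_smul]
      exact S.zero_mem
    · exact S.smul_mem _ (h2 z₀ h0)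
  have lemB : ∀ n, ∀ z₀ : (Fin N → F) →ₗ[F] Y, N - finrank F (LinearMap.ker z₀) = n → ∑ z with cl z = cl z₀, P.ep z ∈ S := by
    intro n
    induction n using Nat.strong_induction_on with
    | _ n ih =>
      intro z₀ hn
      obtain ⟨g, c, hc, hg⟩ := P.exists_weyl hψ (LinearMap.ker z₀)
      have h1 : ∑ z, (if LinearMap.ker z₀ ≤ LinearMap.ker z then (1 : ℂ) else 0) • P.ep z ∈ S :=
        (S.smul_mem_iff hc).1 (hg ▸ Submodule.subset_span ⟨g, rfl⟩)
      have h2 := isolate P.ep S (fm Ψ) z₀ (fun z hz => by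
        obtain ⟨g, μ, h1, h2⟩ := P.sep hψ hz
        exact ⟨P.A g, μ, hA g, h1, h2⟩) _ h1
      have h3 := lemA (fun z => if fm Ψ z = fm Ψ z₀ ∧ LinearMap.ker z₀ < LinearMap.ker z then 1 else 0)
        (fun z z' h => by
          have e1 : LinearMap.ker z = LinearMap.ker z' := congrArg Prod.fst h
          have e2 : fm Ψ z = fm Ψ z' := congrArg Prod.snd h
          simp only [e1, e2])
        (fun z hz => by
          have h4 : LinearMap.ker z₀ < LinearMap.ker z := by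
            by_contra hc
            exact hz (if_neg fun h => hc h.2)
          have h5 := Submodule.finrank_lt_finrank_of_lt h4
          have h6 := Submodule.finrank_le (LinearMap.ker z)
          rw [finrank_fintype_fun_eq_card, Fintype.card_fin] at h6
          exact ih _ (by omega) z rfl)
      convert S.sub_mem h2 h3 using 1
      rw [Finset.sum_filter, Finset.sum_filter, ← Finset.sum_sub_distrib]
      refine Finset.sum_congr rfl fun z _ => ?_
      by_cases e2 : fm Ψ z = fm Ψ z₀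
      · by_cases e1 : LinearMap.ker z = LinearMap.ker z₀
        · simp [cl, e1, e2]
        · by_cases e3 : LinearMap.ker z₀ ≤ LinearMap.ker z
          · simp [cl, e1, e2, e3, lt_of_le_of_ne e3 (Ne.symm e1)]
          · simp [cl, e1, e3, show ¬ LinearMap.ker z₀ < LinearMap.ker z from fun h => e3 h.le]
      · simp [cl, e2]
  intro v hv
  obtain ⟨f, rfl⟩ := P.exists_coef hψ v
  refine lemA f (fun z z' h => ?_) fun z₀ _ => lemB _ z₀ rfl
  have e2 : fm Ψ z = fm Ψ z' := congrArg Prod.snd h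
  obtain ⟨k, hk⟩ := witt_map Ψ z z' (congrArg Prod.fst h) (fun a b => (congrFun (congrFun (congrArg Prod.fst e2) a) b).symm)
    (fun a => (congrFun (congrArg Prod.snd e2) a).symm)
  have h1 := hv k
  rw [MonoidHom.one_apply, Units.val_one, one_smul] at h1
  have h2 := P.coef_mono hψ (lcomp k.1) (fun _ => 1) (fun z _ => by rw [one_smul]; exact P.C_ep k z) h1 z
  rw [one_mul, show lcomp k.1 z = z' from LinearMap.ext hk] at h2
  exact h2.symm

end Pt

end Cfsg.Agent.PQ.G4
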